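import Mathlib
import Cfsg.Agent.Lib.OddMax.Sec15.NonTI.Main
import Cfsg.Agent.Lib.OddMax.Sec16.ThmII.Weak

/-!
S1391 and S1440 from the statement that `M_σ` contains the centralisers in `M` of its non-identity
elements whenever `κ(M) = ∅`.
-/

set_option autoImplicit false

namespace Cfsg.Agent.Lib.OddMax.Sec16.ThmII

open Cfsg Subgroup
open Cfsg.Agent.Lib
open Cfsg.Agent.Lib.OddMax

universe u

variable {G : Type u} [Group G] [Finite G]

/-- The general statement, for one group. -/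
def KappaFrobenius (G : Type u) [Group G] : Prop :=
  ∀ M : Subgroup G, IsCoatom M → kappa M = ∅ → ∀ x ∈ sigmaCore M, x ≠ 1 →
    M ⊓ centralizer ({x} : Set G) ≤ sigmaCore M

theorem frobenius_of_bot (hG : IsMinSimpleOddOrder G) (hgen : KappaFrobenius G)
    (M K U : Subgroup G) (hM : IsCoatom M) (hU : IsSigmaDecomposition M K U) (hK : K = ⊥) :
    ∀ h ∈ fittingHallOf M, h ≠ 1 → M ⊓ centralizer ({h} : Set G) ≤ fittingHallOf M := by
  have hκ : kappa M = ∅ := Set.eq_empty_iff_forall_notMem.mpr fun p hp =>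
    hU.hall.2.2 p hp.1 hp (by rw [hK, relIndex_bot_left]; exact hp.2.1)
  rw [Sec16.fittingHallOf_eq_of_bot hG hM hU hK]
  exact hgen M hM hκ

theorem fitting_not_ti_structure (hG : IsMinSimpleOddOrder G) (hgen : KappaFrobenius G)
    {M K U : Subgroup G} {g : G} (hM : IsCoatom M) (hKU : IsSigmaDecomposition M K U) (hg : g ∉ M)
    (hX : fittingOf M ⊓ (fittingOf M).map (MulAut.conj g).toMonoidHom ≠ ⊥) :
    ⁅M, M⁆ = fittingOf M := by
  rcases eq_or_ne K ⊥ with hK | hK
  · obtain ⟨x, p, hw⟩ := Sec15.NonTI.exists_witness hG hM hg hX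
    exact Sec15.NonTI.derived_eq_fitting_of_frobenius hw (frobenius_of_bot hG hgen M K U hM hKU hK)
  · exact (Sec15.NonTI.structure_nonTI hG hM hKU hg hX).2.1.2.2.2 hK

end Cfsg.Agent.Lib.OddMax.Sec16.ThmII
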